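import Groth.Prelude.Def_RelSpec2
import Mathlib.AlgebraicGeometry.ProjectiveSpectrum.Functor

/-!
# Homogeneous localizations along maps of graded rings
-/

universe u

open CategoryTheory AlgebraicGeometry HomogeneousLocalization
open scoped HomogeneousIdeal

noncomputable section

namespace Groth.Agent.ProjQMapX

variable {A B C σ τ ω : Type u} [CommRing A] [CommRing B] [CommRing C]
  [SetLike σ A] [AddSubgroupClass σ A] [SetLike τ B] [AddSubgroupClass τ B]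
  [SetLike ω C] [AddSubgroupClass ω C]
  {𝒜 : ℕ → σ} {ℬ : ℕ → τ} {𝒞 : ℕ → ω} [GradedRing 𝒜] [GradedRing ℬ] [GradedRing 𝒞]

/-- The map of degree zero localizations along a graded map, at an element equal to the image. -/
def awayMapTo (r : 𝒜 →+*ᵍ ℬ) {x : A} {y : B} (e : r x = y) : Away 𝒜 x →+* Away ℬ y :=
  HomogeneousLocalization.map r <| by rintro _ ⟨n, rfl⟩; exact ⟨n, by simp [e]⟩

lemma awayMapTo_mk (r : 𝒜 →+*ᵍ ℬ) {x : A} {y : B} (e : r x = y) {d : ℕ} (hx : x ∈ 𝒜 d) (n : ℕ)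
    (a : A) (ha : a ∈ 𝒜 (n • d)) :
    awayMapTo r e (Away.mk 𝒜 hx n a ha) = Away.mk ℬ (e ▸ r.2 hx) n (r a) (r.2 ha) := by
  subst e
  exact Away.map_mk r x hx n a ha

lemma awayMapTo_self (r : 𝒜 →+*ᵍ ℬ) (x : A) : awayMapTo r (rfl : r x = r x) = Away.map r x := rfl

lemma awayMapTo_comp (r : 𝒜 →+*ᵍ ℬ) (r' : ℬ →+*ᵍ 𝒞) {x : A} {y : B} {z : C}
    (e : r x = y) (e' : r' y = z) :
    (awayMapTo r' e').comp (awayMapTo r e) =
      awayMapTo (r'.comp r) (show r' (r x) = z by rw [e, e']) := by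
  subst e e'
  exact (Away.map_comp r r' x).symm

lemma awayMapTo_congr {r r' : 𝒜 →+*ᵍ ℬ} (h : r = r') {x : A} {y : B} (e : r x = y) (e' : r' x = y) :
    awayMapTo r e = awayMapTo r' e' := by subst h; rfl

@[reassoc]
lemma awayι_comp_map_to (r : 𝒜 →+*ᵍ ℬ) (hr : ℬ₊ ≤ (𝒜₊).map r) {x : A} {y : B} (e : r x = y)
    {d : ℕ} (hd : 0 < d) (hx : x ∈ 𝒜 d) :
    Proj.awayι ℬ y (e ▸ r.2 hx) hd ≫ Proj.map r hr =
      Spec.map (CommRingCat.ofHom (awayMapTo r e)) ≫ Proj.awayι 𝒜 x hx hd := by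
  subst e
  exact Proj.awayι_comp_map r hr hd x hx

/-- The point image under `Spec` of a map of homogeneous localizations lands in `D₊(a)` iff the
point itself lies in `D₊(ψ a)`. -/
lemma awayMap_mem_basicOpen (ψ : 𝒜 →+*ᵍ ℬ) {f : A} {d : ℕ} (hf : f ∈ 𝒜 d) (hd : 0 < d)
    {a : A} {e : ℕ} (ha : a ∈ 𝒜 e) (he : 0 < e) (w : Spec (CommRingCat.of (Away ℬ (ψ f)))) :
    (Spec.map (CommRingCat.ofHom (Away.map ψ f)) ≫ Proj.awayι 𝒜 f hf hd) w ∈ Proj.basicOpen 𝒜 a ↔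
      Proj.awayι ℬ (ψ f) (ψ.2 hf) hd w ∈ Proj.basicOpen ℬ (ψ a) := by
  show Spec.map (CommRingCat.ofHom (Away.map ψ f)) w ∈ Proj.awayι 𝒜 f hf hd ⁻¹ᵁ Proj.basicOpen 𝒜 a ↔
    w ∈ Proj.awayι ℬ (ψ f) (ψ.2 hf) hd ⁻¹ᵁ Proj.basicOpen ℬ (ψ a)
  refine ((SetLike.ext_iff.mp (Proj.awayι_preimage_basicOpen 𝒜 hf hd ha he) _).trans ?_).trans
    (SetLike.ext_iff.mp (Proj.awayι_preimage_basicOpen ℬ (ψ.2 hf) hd (ψ.2 ha) he) w).symm
  have h : Away.map ψ f (Away.isLocalizationElem hf ha) =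
      Away.isLocalizationElem (ψ.2 hf) (ψ.2 ha) := by
    simp only [Away.map_mk, map_pow]
    rfl
  show Away.map ψ f (Away.isLocalizationElem hf ha) ∉ w.asIdeal ↔ _
  rw [h]
  rfl

omit [AddSubgroupClass τ B] [GradedRing ℬ] in
/-- An element of the irrelevant ideal escaping a prime has a homogeneous component doing so. -/
lemma exists_homogeneous_of_mem_irrelevant (ψ : 𝒜 →+*ᵍ ℬ) {I : Ideal B} {a : A}
    (ha : a ∈ (𝒜₊).toIdeal) (hne : ψ a ∉ I) :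
    ∃ (d : ℕ) (f : A), 0 < d ∧ f ∈ 𝒜 d ∧ ψ f ∉ I := by
  classical
  by_contra! H
  refine hne ?_
  rw [← DirectSum.sum_support_decompose 𝒜 a, map_sum]
  refine Ideal.sum_mem _ fun i hi ↦ ?_
  rcases i.eq_zero_or_pos with rfl | hi'
  · have h0 : (DirectSum.decompose 𝒜 a 0 : A) = 0 := ha
    rw [h0, map_zero]
    exact I.zero_mem
  · exact H i _ hi' (SetLike.coe_mem _)

lemma mem_domOpen_iff (ψ : 𝒜 →+*ᵍ ℬ) (x : Proj ℬ) :
    x ∈ RelCone.domOpen ψ ↔ ∃ (d : ℕ) (f : A), 0 < d ∧ f ∈ 𝒜 d ∧ x ∈ Proj.basicOpen ℬ (ψ f) := by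
  rw [RelCone.mem_domOpen]
  constructor
  · rintro ⟨a, ha, hne⟩
    exact exists_homogeneous_of_mem_irrelevant ψ ha hne
  · rintro ⟨d, f, hd, hf, hx⟩
    exact ⟨f, HomogeneousIdeal.mem_irrelevant_of_mem _ hd hf, hx⟩

end Groth.Agent.ProjQMapX
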