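import Groth.Prelude.Def_RelProj4
import Groth.Agent.Proj16.RelExist
import Groth.Agent.ProjQMapX.Ring

/-!
# The standard charts of the morphism of relative `Proj`s of a graded morphism
-/

universe u

open CategoryTheory CategoryTheory.Limits AlgebraicGeometry TopologicalSpace Opposite
open HomogeneousLocalization
open scoped HomogeneousIdeal

noncomputable section

namespace Groth.Agent.ProjQMapX

variable {S S' : Scheme.{u}} {g : S' ⟶ S} {𝒮 : RelProj.QCGrAlg S} {𝒮' : RelProj.QCGrAlg S'}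

section basics

variable {P : Scheme.{u}} {p : P ⟶ S}
  {chart : ∀ (U : S.Opens) (hU : IsAffineOpen U), (((p ⁻¹ᵁ U : P.Opens) : Scheme.{u}) ≅ Proj (𝒮.deg U hU))}

lemma range_emb (U : S.Opens) (hU : IsAffineOpen U) :
    Set.range (RelProj.emb p chart U hU) = ((p ⁻¹ᵁ U : P.Opens) : Set P) := by
  show Set.range ((chart U hU).inv ≫ (p ⁻¹ᵁ U : P.Opens).ι) = _
  rw [Scheme.Hom.comp_base, TopCat.coe_comp, Set.range_comp, Set.range_eq_univ.mpr
    (chart U hU).inv.surjective, Set.image_univ, Scheme.Opens.range_ι]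

lemma emb_mem (U : S.Opens) (hU : IsAffineOpen U) (w : Proj (𝒮.deg U hU)) :
    p (RelProj.emb p chart U hU w) ∈ U :=
  (range_emb (chart := chart) U hU).le ⟨w, rfl⟩

lemma exists_emb_eq (U : S.Opens) (hU : IsAffineOpen U) {x : P} (hx : p x ∈ U) :
    ∃ w : Proj (𝒮.deg U hU), RelProj.emb p chart U hU w = x :=
  (range_emb (chart := chart) U hU).ge hx

lemma map_res_emb_of_basic (hP : RelProj.IsRelProj 𝒮 p chart) {U V : S.Opens}
    (hU : IsAffineOpen U) (hV : IsAffineOpen V) (i : V ≤ U) (h : ∃ r : Γ(S, U), S.basicOpen r = V) :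
    Proj.map (𝒮.res hU hV i) (Proj16.irrelevant_le_res 𝒮 hU hV i h) ≫ RelProj.emb p chart U hU =
      RelProj.emb p chart V hV := by
  obtain ⟨r, rfl⟩ := h
  exact RelProj.map_res_emb hP U hU r

lemma emb_map_res (hP : RelProj.IsRelProj 𝒮 p chart) {U V : S.Opens}
    (hU : IsAffineOpen U) (hV : IsAffineOpen V) (i : V ≤ U) (h : ∃ r : Γ(S, U), S.basicOpen r = V)
    (w : Proj (𝒮.deg V hV)) :
    RelProj.emb p chart U hU
      (Proj.map (𝒮.res hU hV i) (Proj16.irrelevant_le_res 𝒮 hU hV i h) w) =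
      RelProj.emb p chart V hV w := by
  rw [← Scheme.Hom.comp_apply, map_res_emb_of_basic hP hU hV i h]

lemma exists_basic_of_basic {U W V : S.Opens} (hU : IsAffineOpen U)
    (hW : ∃ r : Γ(S, U), S.basicOpen r = W) (hV : ∃ r : Γ(S, W), S.basicOpen r = V) :
    ∃ r : Γ(S, U), S.basicOpen r = V := by
  obtain ⟨a, rfl⟩ := hW
  obtain ⟨b, rfl⟩ := hV
  obtain ⟨c, hc⟩ := hU.basicOpen_basicOpen_is_basicOpen a b
  exact ⟨c, hc⟩

lemma le_of_basic {U V : S.Opens} (h : ∃ r : Γ(S, U), S.basicOpen r = V) : V ≤ U := by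
  obtain ⟨r, rfl⟩ := h
  exact S.basicOpen_le r

lemma exists_affine_basic_inter {U V : S.Opens} (hU : IsAffineOpen U) (hV : IsAffineOpen V)
    {O : S.Opens} {y : S} (hy : y ∈ U) (hy' : y ∈ V) (hO : y ∈ O) :
    ∃ W : S.Opens, IsAffineOpen W ∧ y ∈ W ∧ W ≤ O ∧ (∃ r : Γ(S, U), S.basicOpen r = W) ∧
      ∃ s : Γ(S, V), S.basicOpen s = W := by
  obtain ⟨a, ha, hya⟩ := hU.exists_basicOpen_le (V := U ⊓ O) ⟨y, hy, hO⟩ hy
  obtain ⟨r, s, e, hr⟩ := exists_basicOpen_le_affine_inter (hU.basicOpen a) hV y ⟨hya, hy'⟩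
  exact ⟨_, (hU.basicOpen a).basicOpen r, hr, (S.basicOpen_le r).trans (ha.trans inf_le_right),
    exists_basic_of_basic hU ⟨a, rfl⟩ ⟨r, rfl⟩, ⟨s, e.symm⟩⟩

end basics

variable (u : RelProj.QGrHom g 𝒮 𝒮')

lemma gradedAt_res (U : S.Opens) (hU : IsAffineOpen U) (U' : S'.Opens) (hU' : IsAffineOpen U')
    (hle : U' ≤ g ⁻¹ᵁ U) (V : S.Opens) (hV : IsAffineOpen V) (V' : S'.Opens) (hV' : IsAffineOpen V')
    (hle' : V' ≤ g ⁻¹ᵁ V) (i : V ≤ U) (i' : V' ≤ U') :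
    (𝒮'.res hU' hV' i').comp (u.gradedAt U hU U' hU' hle) =
      (u.gradedAt V hV V' hV' hle').comp (𝒮.res hU hV i) := by
  ext x
  show (u.appLE U U' hle ≫ 𝒮'.presheaf.map (homOfLE i').op).hom x =
    (𝒮.presheaf.map (homOfLE i).op ≫ u.appLE V V' hle').hom x
  rw [u.toQHom.appLE_map hle i', u.toQHom.map_appLE i hle']

lemma gradedAt_res_apply (U : S.Opens) (hU : IsAffineOpen U) (U' : S'.Opens) (hU' : IsAffineOpen U')
    (hle : U' ≤ g ⁻¹ᵁ U) (V : S.Opens) (hV : IsAffineOpen V) (V' : S'.Opens) (hV' : IsAffineOpen V')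
    (hle' : V' ≤ g ⁻¹ᵁ V) (i : V ≤ U) (i' : V' ≤ U') (x : 𝒮.presheaf.obj (op U)) :
    𝒮'.res hU' hV' i' (u.gradedAt U hU U' hU' hle x) =
      u.gradedAt V hV V' hV' hle' (𝒮.res hU hV i x) :=
  congrArg (fun ψ : 𝒮.deg U hU →+*ᵍ 𝒮'.deg V' hV' => ψ x)
    (gradedAt_res u U hU U' hU' hle V hV V' hV' hle' i i')

/-- A standard chart: an affine pair and a homogeneous element of positive degree. -/
structure Chart (u : RelProj.QGrHom g 𝒮 𝒮') where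
  U : S.Opens
  hU : IsAffineOpen U
  U' : S'.Opens
  hU' : IsAffineOpen U'
  hle : U' ≤ g ⁻¹ᵁ U
  d : ℕ
  hd : 0 < d
  f : 𝒮.presheaf.obj (op U)
  hf : f ∈ 𝒮.deg U hU d

namespace Chart

variable {u}

/-- The image of the element. -/
abbrev img (c : Chart u) : 𝒮'.presheaf.obj (op c.U') := u.gradedAt c.U c.hU c.U' c.hU' c.hle c.f

/-- The source of a chart. -/
abbrev src (c : Chart u) : Scheme.{u} :=
  Spec (CommRingCat.of (Away (𝒮'.deg c.U' c.hU') c.img))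

variable {P' : Scheme.{u}} (p' : P' ⟶ S')
  (chart' : ∀ (U' : S'.Opens) (hU' : IsAffineOpen U'), (((p' ⁻¹ᵁ U' : P'.Opens) : Scheme.{u}) ≅ Proj (𝒮'.deg U' hU')))

/-- The chart immersion. -/
def emb (c : Chart u) : c.src ⟶ P' :=
  RelProj.awayEmb u p' chart' c.U c.hU c.U' c.hU' c.hle c.hd c.f c.hf

instance (c : Chart u) : IsOpenImmersion (c.emb p' chart') := by
  unfold emb RelProj.awayEmb; infer_instance

variable {P : Scheme.{u}} (p : P ⟶ S)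
  (chart : ∀ (U : S.Opens) (hU : IsAffineOpen U), (((p ⁻¹ᵁ U : P.Opens) : Scheme.{u}) ≅ Proj (𝒮.deg U hU)))

/-- The value of the induced morphism on a chart. -/
def toP (c : Chart u) : c.src ⟶ P :=
  Spec.map (CommRingCat.ofHom (Away.map (u.gradedAt c.U c.hU c.U' c.hU' c.hle) c.f)) ≫
    Proj.awayι (𝒮.deg c.U c.hU) c.f c.hf c.hd ≫ RelProj.emb p chart c.U c.hU

/-- `c'` is a refinement of `c`. -/
def Refines (c' c : Chart u) : Prop :=
  ∃ ρ : c'.src ⟶ c.src, ρ ≫ c.emb p' chart' = c'.emb p' chart' ∧ ρ ≫ c.toP p chart = c'.toP p chart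

variable {p' chart' p chart}

lemma Refines.trans {c c' c'' : Chart u} (h : Refines p' chart' p chart c'' c')
    (h' : Refines p' chart' p chart c' c) : Refines p' chart' p chart c'' c := by
  obtain ⟨ρ, h1, h2⟩ := h
  obtain ⟨σ, h3, h4⟩ := h'
  exact ⟨ρ ≫ σ, by rw [Category.assoc, h3, h1], by rw [Category.assoc, h4, h2]⟩

lemma range_emb (c : Chart u) :
    Set.range (c.emb p' chart') = (RelProj.emb p' chart' c.U' c.hU') ''
      (Proj.basicOpen (𝒮'.deg c.U' c.hU') c.img : Set (Proj (𝒮'.deg c.U' c.hU'))) := by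
  rw [← Proj.opensRange_awayι (𝒮'.deg c.U' c.hU') c.img
    ((u.gradedAt c.U c.hU c.U' c.hU' c.hle).2 c.hf) c.hd, Scheme.Hom.coe_opensRange, emb,
    RelProj.awayEmb, Scheme.Hom.comp_base, TopCat.coe_comp, Set.range_comp]

lemma mem_range_emb {c : Chart u} {x : P'} :
    x ∈ Set.range (c.emb p' chart') ↔ ∃ w : Proj (𝒮'.deg c.U' c.hU'),
      w ∈ Proj.basicOpen (𝒮'.deg c.U' c.hU') c.img ∧ RelProj.emb p' chart' c.U' c.hU' w = x := by
  rw [range_emb]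
  rfl

/-- Restriction of a chart to a basic pair. -/
abbrev res (c : Chart u) (V : S.Opens) (hV : IsAffineOpen V) (V' : S'.Opens) (hV' : IsAffineOpen V')
    (hle' : V' ≤ g ⁻¹ᵁ V) (i : V ≤ c.U) : Chart u :=
  ⟨V, hV, V', hV', hle', c.d, c.hd, 𝒮.res c.hU hV i c.f, (𝒮.res c.hU hV i).2 c.hf⟩

variable (hP : RelProj.IsRelProj 𝒮 p chart) (hP' : RelProj.IsRelProj 𝒮' p' chart')

include hP hP' in
lemma refines_res (c : Chart u) (V : S.Opens) (hV : IsAffineOpen V) (V' : S'.Opens)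
    (hV' : IsAffineOpen V') (hle' : V' ≤ g ⁻¹ᵁ V) (hb : ∃ r : Γ(S, c.U), S.basicOpen r = V)
    (hb' : ∃ r : Γ(S', c.U'), S'.basicOpen r = V') :
    Refines p' chart' p chart (c.res V hV V' hV' hle' (le_of_basic hb)) c := by
  let r := 𝒮.res c.hU hV (le_of_basic hb)
  let r' := 𝒮'.res c.hU' hV' (le_of_basic hb')
  let ψ := u.gradedAt c.U c.hU c.U' c.hU' c.hle
  let ψ' := u.gradedAt V hV V' hV' hle'
  have he : r' (ψ c.f) = ψ' (r c.f) :=
    gradedAt_res_apply u c.U c.hU c.U' c.hU' c.hle V hV V' hV' hle' (le_of_basic hb) (le_of_basic hb') c.f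
  refine ⟨Spec.map (CommRingCat.ofHom (awayMapTo r' he)), ?_, ?_⟩
  · unfold emb RelProj.awayEmb
    show _ ≫ Proj.awayι (𝒮'.deg c.U' c.hU') (ψ c.f) (ψ.2 c.hf) c.hd ≫ _ =
      Proj.awayι (𝒮'.deg V' hV') (ψ' (r c.f)) (ψ'.2 (r.2 c.hf)) c.hd ≫ _
    rw [← awayι_comp_map_to_assoc r' (Proj16.irrelevant_le_res 𝒮' c.hU' hV' _ hb') he c.hd (ψ.2 c.hf),
      map_res_emb_of_basic hP' c.hU' hV' _ hb']
  · unfold toP
    show Spec.map _ ≫ Spec.map (CommRingCat.ofHom (Away.map ψ c.f)) ≫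
        Proj.awayι (𝒮.deg c.U c.hU) c.f c.hf c.hd ≫ _ =
      Spec.map (CommRingCat.ofHom (Away.map ψ' (r c.f))) ≫ Proj.awayι (𝒮.deg V hV) (r c.f) (r.2 c.hf) c.hd ≫ _
    rw [← map_res_emb_of_basic hP c.hU hV (le_of_basic hb) hb,
      Proj.awayι_comp_map_assoc r (Proj16.irrelevant_le_res 𝒮 c.hU hV _ hb) c.hd c.f c.hf,
      ← Spec.map_comp_assoc, ← Spec.map_comp_assoc, ← CommRingCat.ofHom_comp, ← CommRingCat.ofHom_comp,
      ← awayMapTo_self ψ c.f, ← awayMapTo_self ψ' (r c.f), ← awayMapTo_self r c.f, awayMapTo_comp,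
      awayMapTo_comp]
    congr 3
    exact awayMapTo_congr (gradedAt_res u c.U c.hU c.U' c.hU' c.hle V hV V' hV' hle' _ _) _ _

lemma refines_of_eq_mul (c : Chart u) {e n : ℕ} (hn : n = c.d + e) (hn0 : 0 < n)
    (h x : 𝒮.presheaf.obj (op c.U)) (hh : h ∈ 𝒮.deg c.U c.hU e) (hx : x = c.f * h)
    (hxn : x ∈ 𝒮.deg c.U c.hU n) :
    Refines p' chart' p chart ⟨c.U, c.hU, c.U', c.hU', c.hle, n, hn0, x, hxn⟩ c := by
  subst hn
  let ψ := u.gradedAt c.U c.hU c.U' c.hU' c.hle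
  have hx' : ψ x = ψ c.f * ψ h := by rw [hx, map_mul]
  refine ⟨Spec.map (CommRingCat.ofHom (awayMap (𝒮'.deg c.U' c.hU') (ψ.2 hh) hx')), ?_, ?_⟩
  · unfold emb RelProj.awayEmb
    exact Proj.SpecMap_awayMap_awayι_assoc (𝒮'.deg c.U' c.hU') (ψ.2 c.hf) c.hd (ψ.2 hh) hx' _
  · unfold toP
    show Spec.map _ ≫ Spec.map (CommRingCat.ofHom (Away.map ψ c.f)) ≫
        Proj.awayι (𝒮.deg c.U c.hU) c.f c.hf c.hd ≫ _ =
      Spec.map (CommRingCat.ofHom (Away.map ψ x)) ≫ Proj.awayι (𝒮.deg c.U c.hU) x hxn hn0 ≫ _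
    rw [← Proj.SpecMap_awayMap_awayι_assoc (𝒮.deg c.U c.hU) c.hf c.hd hh hx,
      ← Spec.map_comp_assoc, ← Spec.map_comp_assoc]
    congr 2
    ext q
    obtain ⟨m, a, ha, rfl⟩ := Away.mk_surjective (𝒮.deg c.U c.hU) c.hf q
    show (awayMap (𝒮'.deg c.U' c.hU') (ψ.2 hh) hx' (Away.map ψ c.f _)).val = _
    simp [hx, map_mul, map_pow, awayMap_mk]

include hP hP' in
/-- Two charts through a point have a common refinement through it. -/
lemma exists_refines (c₁ c₂ : Chart u) {x : P'} (h₁ : x ∈ Set.range (c₁.emb p' chart'))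
    (h₂ : x ∈ Set.range (c₂.emb p' chart')) :
    ∃ c : Chart u, x ∈ Set.range (c.emb p' chart') ∧
      Refines p' chart' p chart c c₁ ∧ Refines p' chart' p chart c c₂ := by
  obtain ⟨w₁, hw₁, hx₁⟩ := mem_range_emb.mp h₁
  obtain ⟨w₂, hw₂, hx₂⟩ := mem_range_emb.mp h₂
  have hy₁ : p' x ∈ c₁.U' := hx₁ ▸ emb_mem c₁.U' c₁.hU' w₁
  have hy₂ : p' x ∈ c₂.U' := hx₂ ▸ emb_mem c₂.U' c₂.hU' w₂
  obtain ⟨V, hV, hyV, -, hb₁, hb₂⟩ := exists_affine_basic_inter c₁.hU c₂.hU (O := ⊤)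
    (c₁.hle hy₁) (c₂.hle hy₂) trivial
  obtain ⟨V', hV', hyV', hle', hb₁', hb₂'⟩ :=
    exists_affine_basic_inter c₁.hU' c₂.hU' (O := g ⁻¹ᵁ V) hy₁ hy₂ hyV
  obtain ⟨w, hw⟩ := exists_emb_eq (chart := chart') V' hV' hyV'
  have key : ∀ (c : Chart u) (hb : ∃ r : Γ(S, c.U), S.basicOpen r = V)
      (hb' : ∃ r : Γ(S', c.U'), S'.basicOpen r = V') (w₀ : Proj (𝒮'.deg c.U' c.hU')),
      w₀ ∈ Proj.basicOpen (𝒮'.deg c.U' c.hU') c.img → RelProj.emb p' chart' c.U' c.hU' w₀ = x →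
      w ∈ Proj.basicOpen (𝒮'.deg V' hV') (c.res V hV V' hV' hle' (le_of_basic hb)).img := by
    intro c hb hb' w₀ hw₀ hx₀
    have hinj : Proj.map (𝒮'.res c.hU' hV' (le_of_basic hb'))
        (Proj16.irrelevant_le_res 𝒮' c.hU' hV' _ hb') w = w₀ :=
      (RelProj.emb p' chart' c.U' c.hU').isOpenEmbedding.injective
        ((emb_map_res hP' c.hU' hV' _ hb' w).trans (hw.trans hx₀.symm))
    rw [← hinj] at hw₀
    have := hw₀
    show w ∈ Proj.basicOpen (𝒮'.deg V' hV') (u.gradedAt V hV V' hV' hle' (𝒮.res c.hU hV (le_of_basic hb) c.f))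
    rw [← gradedAt_res_apply u c.U c.hU c.U' c.hU' c.hle V hV V' hV' hle' (le_of_basic hb) (le_of_basic hb') c.f]
    exact this
  let d₁ := c₁.res V hV V' hV' hle' (le_of_basic hb₁)
  let d₂ := c₂.res V hV V' hV' hle' (le_of_basic hb₂)
  let c : Chart u := ⟨V, hV, V', hV', hle', d₁.d + d₂.d, Nat.add_pos_left d₁.hd _, d₁.f * d₂.f,
    SetLike.mul_mem_graded d₁.hf d₂.hf⟩
  refine ⟨c, mem_range_emb.mpr ⟨w, ?_, hw⟩, ?_, ?_⟩
  · show w ∈ Proj.basicOpen (𝒮'.deg V' hV') (u.gradedAt V hV V' hV' hle' (d₁.f * d₂.f))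
    rw [map_mul, Proj.basicOpen_mul]
    exact ⟨key c₁ hb₁ hb₁' w₁ hw₁ hx₁, key c₂ hb₂ hb₂' w₂ hw₂ hx₂⟩
  · exact (refines_of_eq_mul d₁ rfl _ d₂.f _ d₂.hf rfl _).trans (refines_res hP hP' c₁ V hV V' hV' hle' hb₁ hb₁')
  · exact (refines_of_eq_mul d₂ (Nat.add_comm _ _) _ d₁.f _ d₁.hf (mul_comm _ _) _).trans
      (refines_res hP hP' c₂ V hV V' hV' hle' hb₂ hb₂')

end Chart

end Groth.Agent.ProjQMapX
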