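import Groth.Agent.ProjQMapX.Props

/-!
# Graded homomorphisms over one base
-/

universe u

open CategoryTheory CategoryTheory.Limits AlgebraicGeometry TopologicalSpace Opposite
open HomogeneousLocalization
open scoped HomogeneousIdeal

noncomputable section

namespace Groth.Agent.ProjQMapX

variable {Y : Scheme.{u}} {𝒜 ℬ : RelProj.QCGrAlg Y} (φ : 𝒜.toQCAlg ⟶ ℬ.toQCAlg) (hφ : RelProj.IsGradedHom φ)

lemma ofHom_gradedAt (U : Y.Opens) (hU : IsAffineOpen U) :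
    (RelProj.QGrHom.ofHom φ hφ).gradedAt U hU U hU le_rfl = RelProj.gradedHomAt φ hφ U hU := by
  ext x
  show (φ.hom.app (op U) ≫ ℬ.presheaf.map (homOfLE (le_refl U)).op).hom x = (φ.hom.app (op U)).hom x
  rw [Subsingleton.elim (homOfLE (le_refl U)) (𝟙 U), op_id, ℬ.presheaf.map_id, Category.comp_id]

variable {PA : Scheme.{u}} {pA : PA ⟶ Y}
  {chartA : ∀ (U : Y.Opens) (hU : IsAffineOpen U), (((pA ⁻¹ᵁ U : PA.Opens) : Scheme.{u}) ≅ Proj (𝒜.deg U hU))}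
  {PB : Scheme.{u}} {pB : PB ⟶ Y}
  {chartB : ∀ (U : Y.Opens) (hU : IsAffineOpen U), (((pB ⁻¹ᵁ U : PB.Opens) : Scheme.{u}) ≅ Proj (ℬ.deg U hU))}

lemma domQ_ofHom_inf (hB : RelProj.IsRelProj ℬ pB chartB) (U : Y.Opens) (hU : IsAffineOpen U) :
    RelProj.domQ (RelProj.QGrHom.ofHom φ hφ) pB chartB ⊓ pB ⁻¹ᵁ U =
      (RelProj.emb pB chartB U hU) ''ᵁ RelCone.domOpen (RelProj.gradedHomAt φ hφ U hU) := by
  rw [← ofHom_gradedAt φ hφ U hU]
  refine Opens.ext (Set.ext fun x ↦ ⟨fun ⟨hx, hxU⟩ ↦ ?_, ?_⟩)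
  · obtain ⟨w, rfl⟩ := exists_emb_eq (chart := chartB) U hU hxU
    exact ⟨w, (emb_mem_domQ_iff _ hB U hU U hU le_rfl w).mp hx, rfl⟩
  · rintro ⟨w, hw, rfl⟩
    exact ⟨emb_mem_domQ _ U hU U hU le_rfl hw, emb_mem U hU w⟩

lemma domQ_ofHom_eq_top
    (h : ∀ (U : Y.Opens) (hU : IsAffineOpen U) (w : Proj (ℬ.deg U hU)),
      w ∈ RelCone.domOpen (RelProj.gradedHomAt φ hφ U hU)) :
    RelProj.domQ (RelProj.QGrHom.ofHom φ hφ) pB chartB = ⊤ := by
  refine eq_top_iff.mpr fun x _ ↦ ?_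
  obtain ⟨_, ⟨U, hU₀, rfl⟩, hxU, -⟩ := Y.isBasis_affineOpens.exists_subset_of_mem_open
    (Set.mem_univ (pB x)) isOpen_univ
  have hU : IsAffineOpen U := hU₀
  obtain ⟨w, rfl⟩ := exists_emb_eq (chart := chartB) U hU hxU
  refine emb_mem_domQ _ U hU U hU le_rfl ?_
  rw [ofHom_gradedAt φ hφ U hU]
  exact h U hU w

/-- A property local at the target holds for `Proj(φ)` on its open of definition if it holds for the
maps of degree zero localizations. -/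
theorem of_charts_ofHom (hA : RelProj.IsRelProj 𝒜 pA chartA) (hB : RelProj.IsRelProj ℬ pB chartB)
    {r : ((RelProj.domQ (RelProj.QGrHom.ofHom φ hφ) pB chartB : PB.Opens) : Scheme.{u}) ⟶ PA}
    (hr : RelProj.IsProjQMapOn (RelProj.QGrHom.ofHom φ hφ) pA chartA pB chartB
      (RelProj.domQ (RelProj.QGrHom.ofHom φ hφ) pB chartB) r)
    (Pr : MorphismProperty Scheme.{u}) [IsZariskiLocalAtTarget Pr]
    (h : ∀ (U : Y.Opens) (hU : IsAffineOpen U) (d : ℕ) (_ : 0 < d) (f : 𝒜.presheaf.obj (op U)),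
      f ∈ 𝒜.deg U hU d → Pr (Spec.map (CommRingCat.ofHom (Away.map (RelProj.gradedHomAt φ hφ U hU) f)))) :
    Pr r := by
  refine of_charts hA hB hr Pr ?_
  rintro ⟨U, hU, U', hU', hle, d, hd, f, hf⟩ hpre
  dsimp only at hpre
  obtain rfl : U = U' := hpre
  have := h U hU d hd f hf
  rwa [← ofHom_gradedAt φ hφ U hU] at this

end Groth.Agent.ProjQMapX
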