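import Groth.Agent.ProjQMapX.QMap

/-!
# Everywhere defined maps, inverse images of standard opens, properties checked on charts
-/

universe u

open CategoryTheory CategoryTheory.Limits AlgebraicGeometry TopologicalSpace Opposite
open HomogeneousLocalization
open scoped HomogeneousIdeal

noncomputable section

namespace Groth.Agent.ProjQMapX

variable {S S' : Scheme.{u}} {g : S' ⟶ S} {𝒮 : RelProj.QCGrAlg S} {𝒮' : RelProj.QCGrAlg S'}
  {u : RelProj.QGrHom g 𝒮 𝒮'}
  {P : Scheme.{u}} {p : P ⟶ S}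
  {chart : ∀ (U : S.Opens) (hU : IsAffineOpen U), (((p ⁻¹ᵁ U : P.Opens) : Scheme.{u}) ≅ Proj (𝒮.deg U hU))}
  {P' : Scheme.{u}} {p' : P' ⟶ S'}
  {chart' : ∀ (U' : S'.Opens) (hU' : IsAffineOpen U'), (((p' ⁻¹ᵁ U' : P'.Opens) : Scheme.{u}) ≅ Proj (𝒮'.deg U' hU'))}

lemma isProjQMap_iff {h : P' ⟶ P} :
    RelProj.IsProjQMap u p chart p' chart' h ↔ RelProj.domQ u p' chart' = ⊤ ∧
      RelProj.IsProjQMapOn u p chart p' chart' (RelProj.domQ u p' chart')
        ((RelProj.domQ u p' chart').ι ≫ h) := by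
  refine and_congr_right fun _ ↦ ⟨fun H ↦ (isProjQMapOn_iff u).mpr fun c ↦ ?_,
    fun H U hU U' hU' hle d hd f hf ↦ ?_⟩
  · rw [c.lift_ι_assoc]
    exact H c.U c.hU c.U' c.hU' c.hle c.d c.hd c.f c.hf
  · have := (isProjQMapOn_iff u).mp H ⟨U, hU, U', hU', hle, d, hd, f, hf⟩
    rw [Chart.lift_ι_assoc] at this
    exact this

lemma isIso_ι_of_eq_top {W : P'.Opens} (h : W = ⊤) : IsIso W.ι := by
  subst h
  rw [show (⊤ : P'.Opens).ι = P'.topIso.hom from (Scheme.topIso_hom P').symm]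
  infer_instance

variable (hP : RelProj.IsRelProj 𝒮 p chart) (hP' : RelProj.IsRelProj 𝒮' p' chart')
include hP hP'

theorem existsUnique_isProjQMap (htop : RelProj.domQ u p' chart' = ⊤) :
    ∃! h : P' ⟶ P, RelProj.IsProjQMap u p chart p' chart' h := by
  have := isIso_ι_of_eq_top htop
  obtain ⟨r, hr, huniq⟩ := existsUnique_isProjQMapOn u hP hP'
  refine ⟨inv (RelProj.domQ u p' chart').ι ≫ r, isProjQMap_iff.mpr ⟨htop, by rwa [IsIso.hom_inv_id_assoc]⟩,
    fun h hh ↦ ?_⟩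
  rw [← huniq _ (isProjQMap_iff.mp hh).2, IsIso.inv_hom_id_assoc]

theorem isProjQMap_comp {h : P' ⟶ P} (hh : RelProj.IsProjQMap u p chart p' chart' h) :
    h ≫ p = p' ≫ g := by
  have := isIso_ι_of_eq_top hh.1
  have e := isProjQMapOn_comp hP hP' (isProjQMap_iff.mp hh).2
  rw [Category.assoc] at e
  exact (cancel_epi _).mp e

/-- Where the induced morphism sends a point of the open of definition, read on an affine pair. -/
theorem apply_mem_basicOpen_iff {r : ((RelProj.domQ u p' chart' : P'.Opens) : Scheme.{u}) ⟶ P}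
    (hr : RelProj.IsProjQMapOn u p chart p' chart' (RelProj.domQ u p' chart') r)
    {U : S.Opens} (hU : IsAffineOpen U) {U' : S'.Opens} (hU' : IsAffineOpen U') (hle : U' ≤ g ⁻¹ᵁ U)
    {e : ℕ} (he : 0 < e) {a : 𝒮.presheaf.obj (op U)} (ha : a ∈ 𝒮.deg U hU e)
    (x : (RelProj.domQ u p' chart' : P'.Opens)) (w : Proj (𝒮'.deg U' hU'))
    (hw : RelProj.emb p' chart' U' hU' w = (RelProj.domQ u p' chart').ι x) :
    r x ∈ RelProj.emb p chart U hU ''ᵁ Proj.basicOpen (𝒮.deg U hU) a ↔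
      w ∈ Proj.basicOpen (𝒮'.deg U' hU') (u.gradedAt U hU U' hU' hle a) := by
  obtain ⟨c, hc⟩ := exists_chart_lift u x
  have hcx := (mem_range_lift u).mp hc
  obtain ⟨w₀, hw₀, hx₀⟩ := Chart.mem_range_emb.mp hcx
  set y := p' ((RelProj.domQ u p' chart').ι x) with hy_def
  have hy : y ∈ U' := by rw [hy_def, ← hw]; exact emb_mem U' hU' w
  have hy₀ : y ∈ c.U' := by rw [hy_def, ← hx₀]; exact emb_mem c.U' c.hU' w₀
  obtain ⟨V, hV, hyV, -, hb, hb₂⟩ := exists_affine_basic_inter c.hU hU (O := ⊤)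
    (c.hle hy₀) (hle hy) trivial
  obtain ⟨V', hV', hyV', hle', hb', hb₂'⟩ := exists_affine_basic_inter c.hU' hU' (O := g ⁻¹ᵁ V) hy₀ hy hyV
  obtain ⟨v, hv⟩ := exists_emb_eq (chart := chart') V' hV' hyV'
  have hinj₀ : Proj.map (𝒮'.res c.hU' hV' (le_of_basic hb'))
      (Proj16.irrelevant_le_res 𝒮' c.hU' hV' _ hb') v = w₀ :=
    (RelProj.emb p' chart' c.U' c.hU').isOpenEmbedding.injective
      ((emb_map_res hP' c.hU' hV' _ hb' v).trans (hv.trans hx₀.symm))
  have hinj : Proj.map (𝒮'.res hU' hV' (le_of_basic hb₂'))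
      (Proj16.irrelevant_le_res 𝒮' hU' hV' _ hb₂') v = w :=
    (RelProj.emb p' chart' U' hU').isOpenEmbedding.injective
      ((emb_map_res hP' hU' hV' _ hb₂' v).trans (hv.trans hw.symm))
  set ψ := u.gradedAt V hV V' hV' hle' with hψ
  let c' := c.res V hV V' hV' hle' (le_of_basic hb)
  have hv₀ : v ∈ Proj.basicOpen (𝒮'.deg V' hV') c'.img := by
    rw [← hinj₀] at hw₀
    show v ∈ Proj.basicOpen (𝒮'.deg V' hV') (ψ (𝒮.res c.hU hV (le_of_basic hb) c.f))
    rw [hψ, ← gradedAt_res_apply u c.U c.hU c.U' c.hU' c.hle V hV V' hV' hle' (le_of_basic hb) (le_of_basic hb') c.f]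
    exact hw₀
  obtain ⟨t, ht⟩ : ∃ t : c'.src, Proj.awayι (𝒮'.deg V' hV') c'.img
      ((u.gradedAt c'.U c'.hU c'.U' c'.hU' c'.hle).2 c'.hf) c'.hd t = v := by
    rw [← Proj.opensRange_awayι (𝒮'.deg V' hV') c'.img
      ((u.gradedAt c'.U c'.hU c'.U' c'.hU' c'.hle).2 c'.hf) c'.hd] at hv₀
    exact hv₀
  have hxt : c'.lift p' chart' t = x := by
    refine (RelProj.domQ u p' chart').ι.isOpenEmbedding.injective ?_
    rw [← Scheme.Hom.comp_apply, c'.lift_ι]
    show RelProj.emb p' chart' V' hV' (Proj.awayι (𝒮'.deg V' hV') _ _ _ t) = _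
    rw [ht, hv]
  set z := (Spec.map (CommRingCat.ofHom (Away.map ψ c'.f)) ≫
    Proj.awayι (𝒮.deg V hV) c'.f c'.hf c'.hd) t with hz
  have hrx : r x = RelProj.emb p chart V hV z := by
    rw [← hxt, ← Scheme.Hom.comp_apply, (isProjQMapOn_iff u).mp hr c', hz, ← Scheme.Hom.comp_apply,
      Category.assoc]
    rfl
  rw [hrx, ← emb_map_res hP hU hV (le_of_basic hb₂) hb₂ z, ← hinj]
  refine ((RelProj.emb p chart U hU).isOpenEmbedding.injective.mem_set_image).trans ?_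
  show z ∈ Proj.basicOpen (𝒮.deg V hV) (𝒮.res hU hV (le_of_basic hb₂) a) ↔
    v ∈ Proj.basicOpen (𝒮'.deg V' hV') (𝒮'.res hU' hV' (le_of_basic hb₂') (u.gradedAt U hU U' hU' hle a))
  rw [gradedAt_res_apply u U hU U' hU' hle V hV V' hV' hle' (le_of_basic hb₂) (le_of_basic hb₂') a,
    hz, ← ht]
  exact awayMap_mem_basicOpen ψ c'.hf c'.hd ((𝒮.res hU hV (le_of_basic hb₂)).2 ha) he t

/-- The inverse image of a standard open, read on an affine pair lying over it, is one chart. -/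
theorem range_lift_eq {r : ((RelProj.domQ u p' chart' : P'.Opens) : Scheme.{u}) ⟶ P}
    (hr : RelProj.IsProjQMapOn u p chart p' chart' (RelProj.domQ u p' chart') r)
    (c : Chart u) (hpre : g ⁻¹ᵁ c.U = c.U') :
    Set.range (c.lift p' chart') =
      r ⁻¹' (RelProj.emb p chart c.U c.hU '' (Proj.basicOpen (𝒮.deg c.U c.hU) c.f : Set (Proj (𝒮.deg c.U c.hU)))) := by
  ext x
  refine ((mem_range_lift u).trans Chart.mem_range_emb).trans ?_
  constructor
  · rintro ⟨w, hw, hwx⟩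
    exact (apply_mem_basicOpen_iff hP hP' hr c.hU c.hU' c.hle c.hd c.hf x w hwx).mpr hw
  · intro hx
    have hy : p' ((RelProj.domQ u p' chart').ι x) ∈ c.U' := by
      rw [← hpre]
      show g (p' ((RelProj.domQ u p' chart').ι x)) ∈ c.U
      obtain ⟨z, -, hz⟩ := hx
      rw [← Scheme.Hom.comp_apply, ← Scheme.Hom.comp_apply,
        ← isProjQMapOn_comp hP hP' hr, Scheme.Hom.comp_apply, ← hz]
      exact emb_mem c.U c.hU z
    obtain ⟨w, hw⟩ := exists_emb_eq (chart := chart') c.U' c.hU' hy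
    exact ⟨w, (apply_mem_basicOpen_iff hP hP' hr c.hU c.hU' c.hle c.hd c.hf x w hw).mp hx, hw⟩

omit hP hP' in
/-- The standard open of `P`. -/
lemma range_toP_base (U : S.Opens) (hU : IsAffineOpen U) {d : ℕ} (hd : 0 < d) {f : 𝒮.presheaf.obj (op U)}
    (hf : f ∈ 𝒮.deg U hU d) :
    Set.range (Proj.awayι (𝒮.deg U hU) f hf hd ≫ RelProj.emb p chart U hU) =
      RelProj.emb p chart U hU '' (Proj.basicOpen (𝒮.deg U hU) f : Set (Proj (𝒮.deg U hU))) := by
  rw [← Proj.opensRange_awayι (𝒮.deg U hU) f hf hd, Scheme.Hom.coe_opensRange, Scheme.Hom.comp_base,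
    TopCat.coe_comp, Set.range_comp]

/-- The chart over the inverse image of an affine open is cartesian. -/
theorem isPullback_chart {r : ((RelProj.domQ u p' chart' : P'.Opens) : Scheme.{u}) ⟶ P}
    (hr : RelProj.IsProjQMapOn u p chart p' chart' (RelProj.domQ u p' chart') r)
    (c : Chart u) (hpre : g ⁻¹ᵁ c.U = c.U') :
    IsPullback (c.lift p' chart')
      (Spec.map (CommRingCat.ofHom (Away.map (u.gradedAt c.U c.hU c.U' c.hU' c.hle) c.f)))
      r (Proj.awayι (𝒮.deg c.U c.hU) c.f c.hf c.hd ≫ RelProj.emb p chart c.U c.hU) := by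
  refine (IsOpenImmersion.isPullback _ (c.lift p' chart') _ r ?_ ?_).flip
  · exact (isProjQMapOn_iff u).mp hr c
  · apply Opens.ext
    show r ⁻¹' Set.range (Proj.awayι (𝒮.deg c.U c.hU) c.f c.hf c.hd ≫ RelProj.emb p chart c.U c.hU) =
      Set.range (c.lift p' chart')
    rw [range_lift_eq hP hP' hr c hpre, range_toP_base]

/-- Over an affine morphism of bases, a property local at the target holds for `Proj(u)` on its open
of definition if it holds for the maps of degree zero localizations. -/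
theorem of_charts {r : ((RelProj.domQ u p' chart' : P'.Opens) : Scheme.{u}) ⟶ P}
    (hr : RelProj.IsProjQMapOn u p chart p' chart' (RelProj.domQ u p' chart') r) [IsAffineHom g]
    (Pr : MorphismProperty Scheme.{u}) [IsZariskiLocalAtTarget Pr]
    (h : ∀ c : Chart u, g ⁻¹ᵁ c.U = c.U' →
      Pr (Spec.map (CommRingCat.ofHom (Away.map (u.gradedAt c.U c.hU c.U' c.hU' c.hle) c.f)))) :
    Pr r := by
  let O : { c : Chart u // g ⁻¹ᵁ c.U = c.U' } → P.Opens := fun i ↦
    (Proj.awayι (𝒮.deg i.1.U i.1.hU) i.1.f i.1.hf i.1.hd ≫ RelProj.emb p chart i.1.U i.1.hU).opensRange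
  have hO : ⨆ i, O i = ⊤ := by
    refine eq_top_iff.mpr fun x _ ↦ ?_
    obtain ⟨_, ⟨U, hU₀, rfl⟩, hxU, -⟩ := S.isBasis_affineOpens.exists_subset_of_mem_open
      (Set.mem_univ (p x)) isOpen_univ
    have hU : IsAffineOpen U := hU₀
    obtain ⟨w, rfl⟩ := exists_emb_eq (chart := chart) U hU hxU
    obtain ⟨a, ha, hwa⟩ := SetLike.not_le_iff_exists.mp w.not_irrelevant_le
    obtain ⟨d, f, hd, hf, hwf⟩ := exists_homogeneous_of_mem_irrelevant
      (GradedRingHom.id (𝒮.deg U hU)) (I := w.asHomogeneousIdeal.toIdeal) ha hwa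
    refine Opens.mem_iSup.mpr ⟨⟨⟨U, hU, g ⁻¹ᵁ U, hU.preimage g, le_rfl, d, hd, f, hf⟩, rfl⟩, ?_⟩
    show RelProj.emb p chart U hU w ∈ Set.range (Proj.awayι (𝒮.deg U hU) f hf hd ≫ RelProj.emb p chart U hU)
    rw [range_toP_base U hU hd hf]
    exact ⟨w, hwf, rfl⟩
  refine IsZariskiLocalAtTarget.of_iSup_eq_top O hO fun i ↦ ?_
  refine (Pr.arrow_mk_iso_iff (morphismRestrictOpensRange r
    (Proj.awayι (𝒮.deg i.1.U i.1.hU) i.1.f i.1.hf i.1.hd ≫ RelProj.emb p chart i.1.U i.1.hU) ≪≫ ?_)).mpr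
    (h i.1 i.2)
  exact Arrow.isoMk (isPullback_chart hP hP' hr i.1 i.2).isoPullback.symm (Iso.refl _)
    (((isPullback_chart hP hP' hr i.1 i.2).isoPullback_inv_snd).trans (Category.comp_id _).symm)

end Groth.Agent.ProjQMapX
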