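import Groth.Agent.ProjQMapX.Charts

/-!
# Existence and uniqueness of `Proj(u)` on its open of definition
-/

universe u

open CategoryTheory CategoryTheory.Limits AlgebraicGeometry TopologicalSpace Opposite
open HomogeneousLocalization
open scoped HomogeneousIdeal

noncomputable section

namespace Groth.Agent.ProjQMapX

/-- Gluing morphisms along a family of open immersions which is closed under refinements. -/
lemma existsUnique_of_refine {W P : Scheme.{u}} {I : Type u} {X : I → Scheme.{u}} (j : ∀ i, X i ⟶ W)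
    [∀ i, IsOpenImmersion (j i)] (f : ∀ i, X i ⟶ P) (hcov : ∀ w : W, ∃ i, w ∈ Set.range (j i))
    (href : ∀ a b (w : W), w ∈ Set.range (j a) → w ∈ Set.range (j b) → ∃ c, w ∈ Set.range (j c) ∧
      (∃ ρ : X c ⟶ X a, ρ ≫ j a = j c ∧ ρ ≫ f a = f c) ∧ ∃ ρ : X c ⟶ X b, ρ ≫ j b = j c ∧ ρ ≫ f b = f c) :
    ∃! r : W ⟶ P, ∀ i, j i ≫ r = f i := by
  let 𝒰 : W.OpenCover :=
    { I₀ := I, X := X, f := j
      mem₀ := by
        rw [Scheme.presieve₀_mem_precoverage_iff]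
        exact ⟨hcov, fun i ↦ inferInstanceAs (IsOpenImmersion (j i))⟩ }
  have hcomp : ∀ a b, pullback.fst (j a) (j b) ≫ f a = pullback.snd (j a) (j b) ≫ f b := by
    intro a b
    refine Scheme.hom_ext_of_forall _ _ fun z ↦ ?_
    obtain ⟨c, hc, ⟨ρ, hρ, hρ'⟩, σ, hσ, hσ'⟩ := href a b ((pullback.fst (j a) (j b) ≫ j a) z)
      ⟨_, rfl⟩ ⟨pullback.snd (j a) (j b) z, by
        rw [← Scheme.Hom.comp_apply, pullback.condition]⟩
    let O := (pullback.fst (j a) (j b) ≫ j a) ⁻¹ᵁ (j c).opensRange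
    refine ⟨O, hc, ?_⟩
    have hr : Set.range (O.ι ≫ pullback.fst (j a) (j b) ≫ j a) ⊆ Set.range (j c) := by
      rintro _ ⟨o, rfl⟩
      exact o.2
    let k := IsOpenImmersion.lift (j c) (O.ι ≫ pullback.fst (j a) (j b) ≫ j a) hr
    have hk : k ≫ j c = O.ι ≫ pullback.fst (j a) (j b) ≫ j a := IsOpenImmersion.lift_fac _ _ _
    have h1 : O.ι ≫ pullback.fst (j a) (j b) = k ≫ ρ := by
      rw [← cancel_mono (j a), Category.assoc, Category.assoc, hρ, hk]
    have h2 : O.ι ≫ pullback.snd (j a) (j b) = k ≫ σ := by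
      rw [← cancel_mono (j b), Category.assoc, Category.assoc, hσ, hk, pullback.condition]
    rw [reassoc_of% h1, reassoc_of% h2, hρ', hσ']
  refine ⟨𝒰.glueMorphisms f hcomp, fun i ↦ 𝒰.ι_glueMorphisms f hcomp i, fun r hr ↦ ?_⟩
  exact 𝒰.hom_ext _ _ fun i ↦ (hr i).trans (𝒰.ι_glueMorphisms f hcomp i).symm

variable {S S' : Scheme.{u}} {g : S' ⟶ S} {𝒮 : RelProj.QCGrAlg S} {𝒮' : RelProj.QCGrAlg S'}
  (u : RelProj.QGrHom g 𝒮 𝒮')
  {P : Scheme.{u}} {p : P ⟶ S}
  {chart : ∀ (U : S.Opens) (hU : IsAffineOpen U), (((p ⁻¹ᵁ U : P.Opens) : Scheme.{u}) ≅ Proj (𝒮.deg U hU))}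
  {P' : Scheme.{u}} {p' : P' ⟶ S'}
  {chart' : ∀ (U' : S'.Opens) (hU' : IsAffineOpen U'), (((p' ⁻¹ᵁ U' : P'.Opens) : Scheme.{u}) ≅ Proj (𝒮'.deg U' hU'))}

lemma mem_domQ_iff_chart {x : P'} :
    x ∈ RelProj.domQ u p' chart' ↔ ∃ c : Chart u, x ∈ Set.range (c.emb p' chart') := by
  constructor
  · intro hx
    obtain ⟨⟨⟨⟨U, hU₀⟩, ⟨U', hU₀'⟩⟩, hle⟩, hV⟩ := Opens.mem_iSup.mp hx
    have hU : IsAffineOpen U := hU₀
    have hU' : IsAffineOpen U' := hU₀'
    obtain ⟨w, hw, rfl⟩ : x ∈ (RelProj.emb p' chart' U' hU') ''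
        (RelCone.domOpen (u.gradedAt U hU U' hU' hle) : Set (Proj (𝒮'.deg U' hU'))) := hV
    obtain ⟨d, f, hd, hf, hwf⟩ := (mem_domOpen_iff _ w).mp hw
    exact ⟨⟨U, hU, U', hU', hle, d, hd, f, hf⟩, Chart.mem_range_emb.mpr ⟨w, hwf, rfl⟩⟩
  · rintro ⟨c, hc⟩
    rw [← SetLike.mem_coe, ← Scheme.Opens.range_ι]
    exact RelProj.range_awayEmb_subset_domQ u p' chart' c.U c.hU c.U' c.hU' c.hle c.hd c.f c.hf hc

lemma emb_mem_domQ (U : S.Opens) (hU : IsAffineOpen U) (U' : S'.Opens) (hU' : IsAffineOpen U')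
    (hle : U' ≤ g ⁻¹ᵁ U) {w : Proj (𝒮'.deg U' hU')}
    (hw : w ∈ RelCone.domOpen (u.gradedAt U hU U' hU' hle)) :
    RelProj.emb p' chart' U' hU' w ∈ RelProj.domQ u p' chart' :=
  Opens.mem_iSup.mpr ⟨⟨(⟨U, hU⟩, ⟨U', hU'⟩), hle⟩, w, hw, rfl⟩

/-- On an affine pair, the open of definition is the open of definition of the ring map. -/
lemma emb_mem_domQ_iff (hP' : RelProj.IsRelProj 𝒮' p' chart') (U : S.Opens) (hU : IsAffineOpen U)
    (U' : S'.Opens) (hU' : IsAffineOpen U') (hle : U' ≤ g ⁻¹ᵁ U) (w : Proj (𝒮'.deg U' hU')) :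
    RelProj.emb p' chart' U' hU' w ∈ RelProj.domQ u p' chart' ↔
      w ∈ RelCone.domOpen (u.gradedAt U hU U' hU' hle) := by
  refine ⟨fun hx ↦ ?_, emb_mem_domQ u U hU U' hU' hle⟩
  obtain ⟨c, hc⟩ := (mem_domQ_iff_chart u).mp hx
  obtain ⟨w₀, hw₀, hx₀⟩ := Chart.mem_range_emb.mp hc
  have hy : p' (RelProj.emb p' chart' U' hU' w) ∈ U' := emb_mem U' hU' w
  have hy₀ : p' (RelProj.emb p' chart' U' hU' w) ∈ c.U' := hx₀ ▸ emb_mem c.U' c.hU' w₀
  obtain ⟨V, hV, hyV, -, hb₁, hb₂⟩ := exists_affine_basic_inter c.hU hU (O := ⊤)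
    (c.hle hy₀) (hle hy) trivial
  obtain ⟨V', hV', hyV', hle', hb₁', hb₂'⟩ := exists_affine_basic_inter c.hU' hU' (O := g ⁻¹ᵁ V) hy₀ hy hyV
  obtain ⟨v, hv⟩ := exists_emb_eq (chart := chart') V' hV' hyV'
  have hinj₀ : Proj.map (𝒮'.res c.hU' hV' (le_of_basic hb₁'))
      (Proj16.irrelevant_le_res 𝒮' c.hU' hV' _ hb₁') v = w₀ :=
    (RelProj.emb p' chart' c.U' c.hU').isOpenEmbedding.injective
      ((emb_map_res hP' c.hU' hV' _ hb₁' v).trans (hv.trans hx₀.symm))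
  have hinj : Proj.map (𝒮'.res hU' hV' (le_of_basic hb₂'))
      (Proj16.irrelevant_le_res 𝒮' hU' hV' _ hb₂') v = w :=
    (RelProj.emb p' chart' U' hU').isOpenEmbedding.injective
      ((emb_map_res hP' hU' hV' _ hb₂' v).trans hv)
  rw [← hinj₀] at hw₀
  have hv₁ : u.gradedAt V hV V' hV' hle' (𝒮.res c.hU hV (le_of_basic hb₁) c.f) ∉ v.asHomogeneousIdeal := by
    rw [← gradedAt_res_apply u c.U c.hU c.U' c.hU' c.hle V hV V' hV' hle' (le_of_basic hb₁) (le_of_basic hb₁') c.f]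
    exact hw₀
  rw [RelCone.mem_domOpen]
  by_contra hne
  push Not at hne
  refine hv₁ ?_
  have hI : ((𝒮.deg V hV)₊).toIdeal ≤
      v.asHomogeneousIdeal.toIdeal.comap (u.gradedAt V hV V' hV' hle') := by
    refine le_trans (show ((𝒮.deg V hV)₊).toIdeal ≤ _ from
      Proj16.irrelevant_le_res 𝒮 hU hV (le_of_basic hb₂) hb₂) (Ideal.map_le_iff_le_comap.mpr fun a ha ↦ ?_)
    have := hne a ha
    rw [← hinj] at this
    show u.gradedAt V hV V' hV' hle' (𝒮.res hU hV (le_of_basic hb₂) a) ∈ v.asHomogeneousIdeal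
    rw [← gradedAt_res_apply u U hU U' hU' hle V hV V' hV' hle' (le_of_basic hb₂) (le_of_basic hb₂') a]
    exact this
  exact hI (HomogeneousIdeal.mem_irrelevant_of_mem _ c.hd ((𝒮.res c.hU hV (le_of_basic hb₁)).2 c.hf))

/-- The lift of a chart into the open of definition. -/
def Chart.lift {u : RelProj.QGrHom g 𝒮 𝒮'} (p' : P' ⟶ S')
    (chart' : ∀ (U' : S'.Opens) (hU' : IsAffineOpen U'), (((p' ⁻¹ᵁ U' : P'.Opens) : Scheme.{u}) ≅ Proj (𝒮'.deg U' hU')))
    (c : Chart u) : c.src ⟶ (RelProj.domQ u p' chart' : P'.Opens) :=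
  IsOpenImmersion.lift (RelProj.domQ u p' chart').ι
    (RelProj.awayEmb u p' chart' c.U c.hU c.U' c.hU' c.hle c.hd c.f c.hf)
    (RelProj.range_awayEmb_subset_domQ u p' chart' c.U c.hU c.U' c.hU' c.hle c.hd c.f c.hf)

@[reassoc (attr := simp)]
lemma Chart.lift_ι (c : Chart u) :
    c.lift p' chart' ≫ (RelProj.domQ u p' chart').ι = c.emb p' chart' :=
  IsOpenImmersion.lift_fac _ _ _

instance (c : Chart u) : IsOpenImmersion (c.lift p' chart') :=
  have : IsOpenImmersion (c.lift p' chart' ≫ (RelProj.domQ u p' chart').ι) := by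
    rw [c.lift_ι]; infer_instance
  IsOpenImmersion.of_comp _ (RelProj.domQ u p' chart').ι

lemma mem_range_lift {c : Chart u} {x : (RelProj.domQ u p' chart' : P'.Opens)} :
    x ∈ Set.range (c.lift p' chart') ↔
      (RelProj.domQ u p' chart').ι x ∈ Set.range (c.emb p' chart') := by
  rw [← c.lift_ι, Scheme.Hom.comp_base, TopCat.coe_comp, Set.range_comp]
  exact (RelProj.domQ u p' chart').ι.isOpenEmbedding.injective.mem_set_image.symm

lemma exists_chart_lift (x : (RelProj.domQ u p' chart' : P'.Opens)) :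
    ∃ c : Chart u, x ∈ Set.range (c.lift p' chart') := by
  obtain ⟨c, hc⟩ := (mem_domQ_iff_chart u).mp x.2
  exact ⟨c, (mem_range_lift u).mpr hc⟩

/-- Morphisms out of the open of definition agree if they agree on the standard charts. -/
lemma domQ_hom_ext {T : Scheme.{u}} {a b : ((RelProj.domQ u p' chart' : P'.Opens) : Scheme.{u}) ⟶ T}
    (h : ∀ c : Chart u, c.lift p' chart' ≫ a = c.lift p' chart' ≫ b) : a = b := by
  refine Scheme.hom_ext_of_forall _ _ fun x ↦ ?_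
  obtain ⟨c, hc⟩ := exists_chart_lift u x
  refine ⟨(c.lift p' chart').opensRange, hc, ?_⟩
  rw [← (c.lift p' chart').isoOpensRange_inv_comp, Category.assoc, Category.assoc, h c]

lemma isProjQMapOn_iff {r : ((RelProj.domQ u p' chart' : P'.Opens) : Scheme.{u}) ⟶ P} :
    RelProj.IsProjQMapOn u p chart p' chart' (RelProj.domQ u p' chart') r ↔
      ∀ c : Chart u, c.lift p' chart' ≫ r = c.toP p chart :=
  ⟨fun h c ↦ h c.U c.hU c.U' c.hU' c.hle c.d c.hd c.f c.hf _,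
    fun h U hU U' hU' hle d hd f hf _ ↦ h ⟨U, hU, U', hU', hle, d, hd, f, hf⟩⟩

variable (hP : RelProj.IsRelProj 𝒮 p chart) (hP' : RelProj.IsRelProj 𝒮' p' chart')
include hP hP'

theorem existsUnique_isProjQMapOn :
    ∃! r : ((RelProj.domQ u p' chart' : P'.Opens) : Scheme.{u}) ⟶ P,
      RelProj.IsProjQMapOn u p chart p' chart' (RelProj.domQ u p' chart') r := by
  have hrefine : ∀ {c' c : Chart u}, Chart.Refines p' chart' p chart c' c →
      ∃ ρ : c'.src ⟶ c.src, ρ ≫ c.lift p' chart' = c'.lift p' chart' ∧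
        ρ ≫ c.toP p chart = c'.toP p chart := by
    rintro c' c ⟨ρ, h1, h2⟩
    refine ⟨ρ, ?_, h2⟩
    rw [← cancel_mono (RelProj.domQ u p' chart').ι, Category.assoc, c.lift_ι, c'.lift_ι, h1]
  obtain ⟨r, hr, huniq⟩ := existsUnique_of_refine (fun c : Chart u ↦ c.lift p' chart')
    (fun c ↦ c.toP p chart) (exists_chart_lift u) fun a b w ha hb ↦ by
      obtain ⟨c, hc, h1, h2⟩ := Chart.exists_refines hP hP' a b ((mem_range_lift u).mp ha)
        ((mem_range_lift u).mp hb)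
      exact ⟨c, (mem_range_lift u).mpr hc, hrefine h1, hrefine h2⟩
  exact ⟨r, (isProjQMapOn_iff u).mpr hr, fun r' hr' ↦ huniq r' ((isProjQMapOn_iff u).mp hr')⟩

variable {u}

/-- The induced morphism lies over the morphism of the bases. -/
theorem isProjQMapOn_comp {r : ((RelProj.domQ u p' chart' : P'.Opens) : Scheme.{u}) ⟶ P}
    (hr : RelProj.IsProjQMapOn u p chart p' chart' (RelProj.domQ u p' chart') r) :
    r ≫ p = (RelProj.domQ u p' chart').ι ≫ p' ≫ g := by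
  refine domQ_hom_ext u fun c ↦ ?_
  rw [reassoc_of% ((isProjQMapOn_iff u).mp hr c), c.lift_ι_assoc]
  have h1 : ∀ (U : S.Opens) (hU : IsAffineOpen U), RelProj.emb p chart U hU ≫ p =
      Proj.toSpecZero (𝒮.deg U hU) ≫ Spec.map (𝒮.strZero U hU) ≫ hU.fromSpec := fun U hU ↦ by
    rw [RelProj.emb, Category.assoc, ← hP.chart_over U hU, Iso.inv_hom_id_assoc]
  have h2 : RelProj.emb p' chart' c.U' c.hU' ≫ p' = Proj.toSpecZero (𝒮'.deg c.U' c.hU') ≫
      Spec.map (𝒮'.strZero c.U' c.hU') ≫ c.hU'.fromSpec := by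
    rw [RelProj.emb, Category.assoc, ← hP'.chart_over c.U' c.hU', Iso.inv_hom_id_assoc]
  unfold Chart.toP Chart.emb RelProj.awayEmb
  rw [Category.assoc, Category.assoc, Category.assoc, h1, reassoc_of% h2, Proj.awayι_toSpecZero_assoc,
    Proj.awayι_toSpecZero_assoc, ← IsAffineOpen.SpecMap_appLE_fromSpec g c.hU c.hU' c.hle,
    ← Spec.map_comp_assoc, ← Spec.map_comp_assoc, ← Spec.map_comp_assoc, ← Spec.map_comp_assoc]
  congr 2
  ext r₀
  simp only [CommRingCat.hom_comp, CommRingCat.hom_ofHom, RingHom.comp_apply, Away.map,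
    fromZeroRingHom]
  refine congr_arg₂ Localization.mk ?_ (Subtype.ext (map_one _))
  exact ConcreteCategory.congr_hom (u.toQHom.str_appLE c.U c.U' c.hle) r₀

end Groth.Agent.ProjQMapX
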