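import Groth.Agent.ProjQMapX.Ring

/-!
# Graded maps that are surjective or injective in large degrees
-/

universe u

open CategoryTheory AlgebraicGeometry HomogeneousLocalization
open scoped HomogeneousIdeal

noncomputable section

namespace Groth.Agent.ProjQMapX

variable {A B σ τ : Type u} [CommRing A] [CommRing B]
  [SetLike σ A] [AddSubgroupClass σ A] [SetLike τ B] [AddSubgroupClass τ B]
  {𝒜 : ℕ → σ} {ℬ : ℕ → τ} [GradedRing 𝒜] [GradedRing ℬ] (ψ : 𝒜 →+*ᵍ ℬ) {n : ℕ}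

lemma awayMap_surjective_of_TN (h : ∀ k, n ≤ k → ∀ y ∈ ℬ k, ∃ x ∈ 𝒜 k, ψ x = y)
    {f : A} {d : ℕ} (hd : 0 < d) (hf : f ∈ 𝒜 d) : Function.Surjective (Away.map ψ f) := by
  intro q
  obtain ⟨m, b, hb, rfl⟩ := q.mk_surjective ℬ (ψ.2 hf)
  have hb' : ψ f ^ n * b ∈ ℬ ((n + m) • d) := by
    rw [add_smul]
    exact SetLike.mul_mem_graded (SetLike.pow_mem_graded n (ψ.2 hf)) hb
  obtain ⟨a, ha, hab⟩ := h _ (le_trans (Nat.le_mul_of_pos_right n hd)
    (by rw [smul_eq_mul]; exact Nat.mul_le_mul_right d (Nat.le_add_right n m))) _ hb'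
  refine ⟨Away.mk 𝒜 hf (n + m) a ha, ?_⟩
  apply HomogeneousLocalization.val_injective
  simp only [Away.map_mk, Away.val_mk, Localization.mk_eq_mk_iff, Localization.r_iff_exists, hab]
  refine ⟨1, ?_⟩
  simp [pow_add]
  ring

lemma awayMap_injective_of_TN (h : ∀ k, n ≤ k → ∀ x ∈ 𝒜 k, ψ x = 0 → x = 0)
    {f : A} {d : ℕ} (hd : 0 < d) (hf : f ∈ 𝒜 d) : Function.Injective (Away.map ψ f) := by
  rw [injective_iff_map_eq_zero]
  intro q hq
  obtain ⟨m, a, ha, rfl⟩ := q.mk_surjective 𝒜 hf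
  have hq' : (Away.map ψ f (Away.mk 𝒜 hf m a ha)).val = 0 := by rw [hq, val_zero]
  rw [Away.map_mk, Away.val_mk, Localization.mk_eq_mk', IsLocalization.mk'_eq_zero_iff] at hq'
  obtain ⟨⟨_, k, rfl⟩, hk⟩ := hq'
  replace hk : ψ f ^ k * ψ a = 0 := hk
  have hdeg : f ^ (n + k) * a ∈ 𝒜 ((n + k + m) • d) := by
    rw [add_smul]
    exact SetLike.mul_mem_graded (SetLike.pow_mem_graded _ hf) ha
  have h0 : f ^ (n + k) * a = 0 := h _ (le_trans (Nat.le_mul_of_pos_right n hd)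
    (by rw [smul_eq_mul]; exact Nat.mul_le_mul_right d (by omega))) _ hdeg
    (by rw [map_mul, map_pow, pow_add, mul_assoc, hk, mul_zero])
  apply HomogeneousLocalization.val_injective
  rw [Away.val_mk, val_zero, Localization.mk_eq_mk', IsLocalization.mk'_eq_zero_iff]
  exact ⟨⟨_, n + k, rfl⟩, h0⟩

lemma mem_domOpen_of_TN (h : ∀ k, n ≤ k → ∀ y ∈ ℬ k, ∃ x ∈ 𝒜 k, ψ x = y) (w : Proj ℬ) :
    w ∈ RelCone.domOpen ψ := by
  obtain ⟨b, hb, hwb⟩ := SetLike.not_le_iff_exists.mp w.not_irrelevant_le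
  obtain ⟨e, f, he, hf, hwf⟩ :=
    exists_homogeneous_of_mem_irrelevant (GradedRingHom.id ℬ) (I := w.asHomogeneousIdeal.toIdeal) hb hwb
  obtain ⟨a, ha, hab⟩ := h _ (le_trans (Nat.le_succ n)
    (by rw [smul_eq_mul]; exact Nat.le_mul_of_pos_right (n + 1) he)) _ (SetLike.pow_mem_graded (n + 1) hf)
  refine (mem_domOpen_iff ψ w).mpr ⟨_, a, ?_, ha, ?_⟩
  · rw [smul_eq_mul]; exact Nat.mul_pos (Nat.succ_pos n) he
  · rw [hab, Proj.basicOpen_pow _ _ _ (Nat.succ_pos n)]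
    exact hwf

end Groth.Agent.ProjQMapX
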